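import Groth.Prelude.Def_FrobAlg
import Mathlib.FieldTheory.PerfectClosure
import Mathlib.RingTheory.Flat.FaithfullyFlat.Algebra
import Mathlib.Algebra.Module.Projective
import Mathlib.Algebra.Colimit.TensorProduct
import Mathlib.RingTheory.TensorProduct.Finite

/-!
# The perfect closure of a ring with projective Frobenius is universally ML
-/

universe u

open TensorProduct

namespace Groth.Agent.H84PerfBC

variable (p : ℕ) [Fact p.Prime] (R : Type u) [CommRing R] [CharP R p]

set_option linter.unusedVariables false in
/-- `R`, as an algebra over itself through the `n`-th power of Frobenius. -/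
@[nolint unusedArguments] def Rn (p : ℕ) (R : Type u) (n : ℕ) : Type u := R

variable (n : ℕ)

instance : CommRing (Rn p R n) := inferInstanceAs (CommRing R)

/-- Identity of underlying rings. -/
def toRn : R ≃+* Rn p R n := RingEquiv.refl R

instance : Algebra R (Rn p R n) := ((toRn p R n : R →+* Rn p R n).comp (iterateFrobenius R p n)).toAlgebra

theorem algebraMap_rn (r : R) : algebraMap R (Rn p R n) r = toRn p R n (r ^ p ^ n) := rfl

instance : Algebra (Rn p R n) (Rn p R (n + 1)) :=
  ((toRn p R (n + 1) : R →+* Rn p R (n + 1)).comp ((frobenius R p).comp ((toRn p R n).symm : Rn p R n →+* R))).toAlgebra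

theorem algebraMap_succ (r : Rn p R n) :
    algebraMap (Rn p R n) (Rn p R (n + 1)) r = toRn p R (n + 1) (((toRn p R n).symm r) ^ p) := rfl

instance : IsScalarTower R (Rn p R n) (Rn p R (n + 1)) :=
  .of_algebraMap_eq fun r => by
    rw [algebraMap_rn, algebraMap_succ, algebraMap_rn, RingEquiv.symm_apply_apply, ← pow_mul, ← pow_succ]

variable [Module.Projective R (FrobAlg.Twist p R)]

instance projective_succ : Module.Projective (Rn p R n) (Rn p R (n + 1)) := by
  have : Module.Projective R (FrobAlg.Twist p R) := inferInstance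
  exact this

omit [Module.Projective R (FrobAlg.Twist p R)] in
theorem projective_zero : Module.Projective R (Rn p R 0) := by
  let e : R ≃ₗ[R] Rn p R 0 :=
    { toFun := toRn p R 0, invFun := (toRn p R 0).symm, left_inv := fun _ => rfl, right_inv := fun _ => rfl,
      map_add' := fun _ _ => rfl
      map_smul' := fun r x => by
        rw [RingHom.id_apply, smul_eq_mul, map_mul, Algebra.smul_def, algebraMap_rn, pow_zero, pow_one] }
  exact Module.Projective.of_equiv e

theorem projective : ∀ n, Module.Projective R (Rn p R n)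
  | 0 => projective_zero p R
  | n + 1 => by
    classical
    have := projective n
    obtain ⟨σ, hσ⟩ := Module.projective_def.1 (projective_succ p R n)
    have : Module.Projective R (Rn p R (n + 1) →₀ Rn p R n) :=
      Module.Projective.of_equiv (finsuppLEquivDirectSum R (Rn p R n) (Rn p R (n + 1))).symm
    exact Module.Projective.of_split (σ.restrictScalars R)
      ((Finsupp.linearCombination (Rn p R n) id).restrictScalars R) (LinearMap.ext hσ)

instance faithfullyFlat_succ : Module.FaithfullyFlat (Rn p R n) (Rn p R (n + 1)) := by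
  refine Module.FaithfullyFlat.of_comap_surjective fun P => ?_
  refine ⟨⟨P.asIdeal.comap ((toRn p R n : R →+* Rn p R n).comp ((toRn p R (n + 1)).symm : Rn p R (n + 1) →+* R)),
    inferInstance⟩, PrimeSpectrum.ext (Ideal.ext fun x => ?_)⟩
  change toRn p R n ((toRn p R (n + 1)).symm (toRn p R (n + 1) (((toRn p R n).symm x) ^ p))) ∈ P.asIdeal ↔ x ∈ P.asIdeal
  rw [RingEquiv.symm_apply_apply, map_pow, RingEquiv.apply_symm_apply]
  exact ⟨P.isPrime.mem_of_pow_mem p, fun h => Ideal.pow_mem_of_mem _ h p (Fact.out : p.Prime).pos⟩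

/-- The transition map. -/
noncomputable def step : Rn p R n →ₗ[R] Rn p R (n + 1) :=
  (IsScalarTower.toAlgHom R (Rn p R n) (Rn p R (n + 1))).toLinearMap

theorem step_injective (M : Type u) [AddCommGroup M] [Module R M] :
    Function.Injective ((step p R n).rTensor M) := by
  let S := Rn p R n
  let T := Rn p R (n + 1)
  have h1 : Function.Injective (TensorProduct.mk S T (S ⊗[R] M) 1) :=
    Module.FaithfullyFlat.tensorProduct_mk_injective (S ⊗[R] M)
  have h2 : ∀ x, AlgebraTensorModule.cancelBaseChange R S S T M (TensorProduct.mk S T (S ⊗[R] M) 1 x) =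
      (step p R n).rTensor M x := by
    intro x
    induction x using TensorProduct.induction_on with
    | zero => simp
    | tmul s m =>
      rw [TensorProduct.mk_apply, AlgebraTensorModule.cancelBaseChange_tmul, LinearMap.rTensor_tmul,
        Algebra.smul_def, mul_one]
      rfl
    | add x y hx hy => simp only [map_add, hx, hy]
  intro x y h
  rw [← h2, ← h2] at h
  exact h1 ((AlgebraTensorModule.cancelBaseChange R S S T M).injective h)

noncomputable instance : Algebra R (PerfectClosure R p) := (PerfectClosure.of R p).toAlgebra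

/-- The map to the perfect closure. -/
noncomputable def incl : Rn p R n →ₗ[R] PerfectClosure R p where
  toFun r := PerfectClosure.mk R p (n, (toRn p R n).symm r)
  map_add' x y := by
    rw [PerfectClosure.mk_add_mk, PerfectClosure.mk_eq_iff]
    refine ⟨0, ?_⟩
    simp only [add_zero, map_add, ← Function.iterate_add_apply, iterate_map_add]
  map_smul' r x := by
    rw [RingHom.id_apply, Algebra.smul_def, Algebra.smul_def, algebraMap_rn,
      show algebraMap R (PerfectClosure R p) r = PerfectClosure.mk R p (0, r) from rfl,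
      PerfectClosure.mk_mul_mk, map_mul, RingEquiv.symm_apply_apply]
    simp only [zero_add, iterate_frobenius, pow_zero, pow_one]

theorem incl_step : (incl p R (n + 1)).comp (step p R n) = incl p R n :=
  LinearMap.ext fun _ => PerfectClosure.mk_succ_pow R p n _

theorem exists_incl (x : PerfectClosure R p) : ∃ n r, incl p R n r = x := by
  obtain ⟨⟨m, a⟩, rfl⟩ := PerfectClosure.mk_surjective R p x
  exact ⟨m, toRn p R m a, rfl⟩

/-- Iterated transition maps. -/
noncomputable def stepN : (k : ℕ) → Rn p R n →ₗ[R] Rn p R (n + k)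
  | 0 => LinearMap.id
  | k + 1 => (step p R (n + k)).comp (stepN k)

theorem incl_stepN : ∀ k, (incl p R (n + k)).comp (stepN p R n k) = incl p R n
  | 0 => rfl
  | k + 1 => by
    rw [stepN, ← LinearMap.comp_assoc]
    exact (congrArg (fun f => f.comp (stepN p R n k)) (incl_step p R (n + k))).trans (incl_stepN k)

theorem stepN_injective (M : Type u) [AddCommGroup M] [Module R M] :
    ∀ k, Function.Injective ((stepN p R n k).rTensor M)
  | 0 => by
    change Function.Injective ((LinearMap.id : Rn p R n →ₗ[R] Rn p R n).rTensor M)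
    rw [LinearMap.rTensor_id]; exact fun _ _ h => h
  | k + 1 => by
    rw [stepN, LinearMap.rTensor_comp, LinearMap.coe_comp]
    exact (step_injective p R (n + k) M).comp (stepN_injective M k)

theorem mk_incl_injective : Function.Injective (incl p R n) := by
  intro x y h
  change PerfectClosure.mk R p _ = PerfectClosure.mk R p _ at h
  obtain ⟨z, hz⟩ := (PerfectClosure.mk_eq_iff R p _ _).1 h
  have hs : ∀ (j : ℕ) (a : Rn p R n), (toRn p R (n + j)).symm (stepN p R n j a) = (frobenius R p)^[j] ((toRn p R n).symm a) := by
    intro j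
    induction j with
    | zero => intro a; rfl
    | succ j ih => intro a; rw [Function.iterate_succ_apply', ← ih]; rfl
  have h' : stepN p R n (n + z) x = stepN p R n (n + z) y := (toRn p R (n + (n + z))).symm.injective (by rw [hs, hs]; exact hz)
  have hinj : ∀ k, Function.Injective (stepN p R n k) := fun k a b hab => by
    have := stepN_injective p R n R k (a₁ := a ⊗ₜ 1) (a₂ := b ⊗ₜ 1) (by simp [hab])
    exact (TensorProduct.rid R (Rn p R n)).symm.injective this
  exact hinj _ h'

theorem incl_injective (M : Type u) [AddCommGroup M] [Module R M] :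
    Function.Injective ((incl p R n).rTensor M) := by
  refine (injective_iff_map_eq_zero _).2 fun w hw => ?_
  obtain ⟨J, hJ, w0, rfl⟩ := Submodule.exists_fg_le_eq_rTensor_subtype w
  rw [← LinearMap.rTensor_comp_apply] at hw
  let N := J.map (incl p R n)
  let g0 : J →ₗ[R] N := (incl p R n).submoduleMap J
  have hw' : N.subtype.rTensor M (g0.rTensor M w0) = N.subtype.rTensor M 0 := by
    rw [map_zero, ← LinearMap.rTensor_comp_apply]; exact hw
  obtain ⟨N', hN', hle, heq⟩ := (hJ.map (incl p R n)).exists_rTensor_fg_inclusion_eq hw'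
  rw [map_zero, ← LinearMap.rTensor_comp_apply] at heq
  obtain ⟨k, hk⟩ : ∃ k, N' ≤ LinearMap.range (incl p R (n + k)) := by
    obtain ⟨s, hs⟩ := hN'
    have hone : ∀ x, ∃ k, ∀ k', k ≤ k' → x ∈ LinearMap.range (incl p R (n + k')) := by
      intro x
      obtain ⟨m, r, rfl⟩ := exists_incl p R x
      refine ⟨m, fun k' hk' => ?_⟩
      obtain ⟨j, hj⟩ : ∃ j, n + k' = m + j := ⟨n + k' - m, by omega⟩
      rw [hj]
      exact ⟨stepN p R m j r, LinearMap.congr_fun (incl_stepN p R m j) r⟩
    choose k hk using hone
    refine ⟨s.sup k, hs ▸ Submodule.span_le.2 fun x hx => hk x _ (Finset.le_sup hx)⟩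
  let g : N' →ₗ[R] Rn p R (n + k) :=
    (LinearEquiv.ofInjective _ (mk_incl_injective p R (n + k))).symm.toLinearMap.comp (Submodule.inclusion hk)
  have hg : g.comp ((Submodule.inclusion hle).comp g0) = (stepN p R n k).comp J.subtype := by
    refine LinearMap.ext fun a => mk_incl_injective p R (n + k) ?_
    have h1 : ∀ b : N', incl p R (n + k) (g b) = b := fun b => by
      exact congrArg Subtype.val ((LinearEquiv.ofInjective _ (mk_incl_injective p R (n + k))).apply_symm_apply _)
    rw [LinearMap.comp_apply, h1]
    exact (LinearMap.congr_fun (incl_stepN p R n k) a).symm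
  refine stepN_injective p R n M k ?_
  rw [map_zero, ← LinearMap.rTensor_comp_apply, ← hg, LinearMap.rTensor_comp_apply, heq, map_zero]

theorem exists_rTensor_incl (M : Type u) [AddCommGroup M] [Module R M] (x : PerfectClosure R p ⊗[R] M) :
    ∃ n w, (incl p R n).rTensor M w = x := by
  induction x using TensorProduct.induction_on with
  | zero => exact ⟨0, 0, map_zero _⟩
  | tmul a m =>
    obtain ⟨n, r, rfl⟩ := exists_incl p R a
    exact ⟨n, r ⊗ₜ m, rfl⟩
  | add x y hx hy =>
    obtain ⟨n, w, rfl⟩ := hx
    obtain ⟨m, v, rfl⟩ := hy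
    obtain ⟨j, hj⟩ : ∃ j, n + m = m + j := ⟨n, add_comm n m⟩
    have h : ∀ (a b : ℕ) (e : a = b), ∀ v : Rn p R a ⊗[R] M, ∃ v' : Rn p R b ⊗[R] M,
        (incl p R b).rTensor M v' = (incl p R a).rTensor M v := by
      rintro a b rfl v; exact ⟨v, rfl⟩
    obtain ⟨v', hv'⟩ := h (m + j) (n + m) hj.symm ((stepN p R m j).rTensor M v)
    refine ⟨n + m, (stepN p R n m).rTensor M w + v', ?_⟩
    rw [map_add, hv', ← LinearMap.rTensor_comp_apply, ← LinearMap.rTensor_comp_apply, incl_stepN, incl_stepN]

/-- Elements of `P ⊗ Π` are detected componentwise for projective `P`. -/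
theorem eq_zero_of_forall_component {ι : Type*} {P : Type u} [AddCommGroup P] [Module R P] [Module.Projective R P]
    {A : Type u} [AddCommGroup A] [Module R A] {M : ι → Type u} [∀ i, AddCommGroup (M i)] [∀ i, Module R (M i)]
    (π : ∀ i, A →ₗ[R] M i) (hπ : ∀ a, (∀ i, π i a = 0) → a = 0) (x : P ⊗[R] A)
    (hx : ∀ i, (π i).lTensor P x = 0) : x = 0 := by
  classical
  obtain ⟨s, hs⟩ := Module.projective_def.1 (inferInstance : Module.Projective R P)
  let t : P ⊗[R] A →ₗ[R] (P →₀ A) := (finsuppScalarLeft R A P).toLinearMap ∘ₗ s.rTensor A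
  have ht : Function.Injective t := by
    refine (finsuppScalarLeft R A P).injective.comp (Function.LeftInverse.injective (g := (Finsupp.linearCombination R id).rTensor A) fun z => ?_)
    rw [← LinearMap.rTensor_comp_apply, show (Finsupp.linearCombination R id).comp s = LinearMap.id from LinearMap.ext hs]
    exact LinearMap.rTensor_id_apply A P z
  refine ht ?_
  rw [map_zero]
  refine Finsupp.ext fun q => hπ _ fun i => ?_
  have key : ∀ z, π i (t z q) = (finsuppScalarLeft R (M i) P) (s.rTensor (M i) ((π i).lTensor P z)) q := by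
    intro z
    induction z using TensorProduct.induction_on with
    | zero => simp [t]
    | tmul a b => simp [t, finsuppScalarLeft_apply_tmul_apply]
    | add a b ha hb => simp only [map_add, Finsupp.add_apply, ha, hb]
  rw [key, hx i, map_zero, map_zero, Finsupp.zero_apply]

theorem jointly_injective {ι : Type*} {A : Type u} [AddCommGroup A] [Module R A] {M : ι → Type u}
    [∀ i, AddCommGroup (M i)] [∀ i, Module R (M i)] (π : ∀ i, A →ₗ[R] M i)
    (hπ : ∀ a, (∀ i, π i a = 0) → a = 0) (x : PerfectClosure R p ⊗[R] A)
    (hx : ∀ i, (π i).lTensor (PerfectClosure R p) x = 0) : x = 0 := by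
  obtain ⟨n, w, rfl⟩ := exists_rTensor_incl p R A x
  have := projective p R n
  rw [eq_zero_of_forall_component R π hπ w fun i => incl_injective p R n (M i) ?_, map_zero]
  rw [map_zero, ← hx i]
  rw [← LinearMap.comp_apply, ← LinearMap.comp_apply, LinearMap.rTensor_comp_lTensor, LinearMap.lTensor_comp_rTensor]

end Groth.Agent.H84PerfBC
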